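import Mathlib

open TensorProduct

namespace CartanNil

universe u

variable {A : Type u} [CommRing A]

lemma isNilpotent_of_residue {M : Type u} [AddCommGroup M] [Module A M] [Module.Finite A M]
    [Module.Projective A M] (T : Module.End A M)
    (h : ∀ p : PrimeSpectrum A, IsNilpotent (T.baseChange p.asIdeal.ResidueField)) :
    IsNilpotent T := by
  obtain ⟨n, π, i, hπ, -, hi⟩ := Module.Finite.exists_comp_eq_id_of_projective A M
  let T' : Module.End A (Fin n → A) := i ∘ₗ T ∘ₗ π
  have hpow : ∀ k : ℕ, T' ^ (k + 1) = i ∘ₗ (T ^ (k + 1)) ∘ₗ π := by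
    intro k
    induction k with
    | zero => simp [T']
    | succ k ih =>
      rw [pow_succ', ih, pow_succ' T (k + 1)]
      refine LinearMap.ext fun x => ?_
      show i (T (π (i ((T ^ (k + 1)) (π x))))) = i (T ((T ^ (k + 1)) (π x)))
      rw [show π (i ((T ^ (k + 1)) (π x))) = (T ^ (k + 1)) (π x) from LinearMap.congr_fun hi _]
  have hnil' : IsNilpotent (T'.charpoly - Polynomial.X ^ (Module.finrank A (Fin n → A))) := by
    rw [Polynomial.isNilpotent_iff]
    intro j
    rw [nilpotent_iff_mem_prime]
    intro P hP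
    let p : PrimeSpectrum A := ⟨P, hP⟩
    haveI : Nontrivial A := ⟨⟨0, 1, fun e => hP.ne_top (P.eq_top_of_isUnit_mem P.zero_mem (e ▸ isUnit_one))⟩⟩
    have hTp : IsNilpotent (T'.baseChange p.asIdeal.ResidueField) := by
      obtain ⟨k, hk⟩ := h p
      refine ⟨k + 1, ?_⟩
      rw [← LinearMap.baseChange_pow, hpow, LinearMap.baseChange_comp, LinearMap.baseChange_comp,
        LinearMap.baseChange_pow, pow_succ, hk, zero_mul, LinearMap.zero_comp, LinearMap.comp_zero]
    have hχ : (T'.baseChange p.asIdeal.ResidueField).charpoly =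
        Polynomial.X ^ Module.finrank p.asIdeal.ResidueField (p.asIdeal.ResidueField ⊗[A] (Fin n → A)) := by
      rw [LinearMap.charpoly_eq_X_pow_iff]
      obtain ⟨k, hk⟩ := hTp
      exact fun m => ⟨k, by rw [hk]; rfl⟩
    rw [LinearMap.charpoly_baseChange, Module.finrank_baseChange] at hχ
    have hz : (T'.charpoly - Polynomial.X ^ Module.finrank A (Fin n → A)).map
        (algebraMap A p.asIdeal.ResidueField) = 0 := by
      rw [Polynomial.map_sub, Polynomial.map_pow, Polynomial.map_X, hχ, sub_self]
    have := congrArg (fun q => Polynomial.coeff q j) hz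
    simp only [Polynomial.coeff_map, Polynomial.coeff_zero] at this
    exact Ideal.algebraMap_residueField_eq_zero.1 this
  have hT' : IsNilpotent T' := by
    obtain ⟨k, hk⟩ := hnil'
    rcases Nat.eq_zero_or_pos (Module.finrank A (Fin n → A)) with h0 | h0
    · rw [h0, pow_zero] at hk
      have h1 : Polynomial.aeval T' ((T'.charpoly - 1) ^ k) = 0 := by rw [hk, map_zero]
      rw [map_pow, map_sub, LinearMap.aeval_self_charpoly, map_one, zero_sub] at h1
      have h2 : IsNilpotent (1 : Module.End A (Fin n → A)) := isNilpotent_neg_iff.1 ⟨k, h1⟩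
      obtain ⟨l, hl⟩ := h2
      rw [one_pow] at hl
      exact ⟨1, by rw [pow_one, ← mul_one T', hl, mul_zero]⟩
    · have h1 : Polynomial.aeval T'
          ((T'.charpoly - Polynomial.X ^ Module.finrank A (Fin n → A)) ^ k) = 0 := by rw [hk, map_zero]
      rw [map_pow, map_sub, LinearMap.aeval_self_charpoly, map_pow, Polynomial.aeval_X, zero_sub] at h1
      exact (isNilpotent_neg_iff.1 (⟨k, h1⟩ : IsNilpotent (-(T' ^ Module.finrank A (Fin n → A))))).of_pow
  obtain ⟨k, hk⟩ := hT'
  refine ⟨k + 1, LinearMap.ext fun x => ?_⟩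
  obtain ⟨y, rfl⟩ := hπ x
  have h2 : T' ^ (k + 1) = 0 := by rw [pow_succ, hk, zero_mul]
  rw [hpow] at h2
  have := congrArg π (LinearMap.congr_fun h2 y)
  simp only [LinearMap.comp_apply, LinearMap.zero_apply, map_zero] at this
  rw [LinearMap.zero_apply, ← this]
  exact (LinearMap.congr_fun hi _).symm

lemma bijective_of_residue {M : Type u} [AddCommGroup M] [Module A M] [Module.Finite A M]
    (T : Module.End A M)
    (h : ∀ p : PrimeSpectrum A, Function.Injective (T.baseChange p.asIdeal.ResidueField)) :
    Function.Bijective T := by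
  have hsurj : Function.Surjective T := by
    rw [← LinearMap.range_eq_top, ← Submodule.Quotient.subsingleton_iff,
      ← Module.support_eq_empty_iff (R := A), Set.eq_empty_iff_forall_notMem]
    intro p hp
    rw [Module.mem_support_iff_nontrivial_residueField_tensorProduct] at hp
    refine not_subsingleton (p.asIdeal.ResidueField ⊗[A] (M ⧸ LinearMap.range T)) ?_
    have hb : Function.Surjective (T.baseChange p.asIdeal.ResidueField) :=
      LinearMap.injective_iff_surjective.1 (h p)
    refine subsingleton_of_forall_eq 0 fun z => ?_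
    obtain ⟨y, rfl⟩ := LinearMap.lTensor_surjective p.asIdeal.ResidueField
      (Submodule.mkQ_surjective (LinearMap.range T)) z
    obtain ⟨w, rfl⟩ := hb y
    rw [show T.baseChange p.asIdeal.ResidueField w = T.lTensor p.asIdeal.ResidueField w from rfl,
      ← LinearMap.comp_apply, ← LinearMap.lTensor_comp, LinearMap.range_mkQ_comp,
      LinearMap.lTensor_zero, LinearMap.zero_apply]
  exact ⟨OrzechProperty.injective_of_surjective_endomorphism T hsurj, hsurj⟩

end CartanNil
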