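import Mathlib

open TensorProduct Module LieSubalgebra LinearMap

namespace CartanNil

attribute [local instance] LieRing.ofAssociativeRing

universe u

variable (K : Type u) [Field K] (K' : Type u) [Field K'] [Algebra K K'] {L : Type u} [LieRing L] [LieAlgebra K L]
  [Module.Finite K L]

theorem ad_baseChange (x : L) :
    (LieAlgebra.ad K L x).baseChange K' = LieAlgebra.ad K' (K' ⊗[K] L) ((1 : K') ⊗ₜ[K] x) := by
  refine TensorProduct.AlgebraTensorModule.ext fun c y => ?_
  simp [LieAlgebra.ad_apply, LieAlgebra.ExtendScalars.bracket_tmul]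

theorem rank_baseChange : LieAlgebra.rank K' (K' ⊗[K] L) = LieAlgebra.rank K L := by
  classical
  let b := Module.Free.chooseBasis K L
  let φ := (LieAlgebra.ad K L).toLinearMap
  have hψ : (LieAlgebra.ad K' (K' ⊗[K] L)).toLinearMap =
      (LinearMap.tensorProduct K K' L L) ∘ₗ φ.baseChange K' := by
    refine TensorProduct.AlgebraTensorModule.ext fun c x => TensorProduct.AlgebraTensorModule.ext fun d y => ?_
    simp [φ, LieAlgebra.ad_apply, LieAlgebra.ExtendScalars.bracket_tmul, TensorProduct.smul_tmul', LinearMap.tensorProduct]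
  rw [LieAlgebra.rank, LieAlgebra.rank, LieModule.rank, LieModule.rank]
  show nilRank (LieAlgebra.ad K' (K' ⊗[K] L)).toLinearMap = nilRank φ
  rw [hψ, nilRank_eq_polyCharpoly_natTrailingDegree _ (Algebra.TensorProduct.basis K' b),
    nilRank_eq_polyCharpoly_natTrailingDegree φ b, polyCharpoly_baseChange]
  rw [Polynomial.natTrailingDegree, Polynomial.trailingDegree,
    Polynomial.support_map_of_injective _ (MvPolynomial.map_injective _ (algebraMap K K').injective)]
  rfl

theorem isRegular_baseChange {x : L} (hx : LieAlgebra.IsRegular K x) :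
    LieAlgebra.IsRegular K' ((1 : K') ⊗ₜ[K] x) := by
  rw [LieAlgebra.isRegular_def] at hx ⊢
  rw [rank_baseChange, ← ad_baseChange, LinearMap.charpoly_baseChange, Polynomial.coeff_map]
  exact fun h => hx ((algebraMap K K').injective (h.trans (map_zero _).symm))

omit [Algebra K K'] in
/-- The Engel subalgebra of a regular element is nilpotent. -/
theorem isNilpotent_engel_infinite [Infinite K] {x : L} (hx : LieAlgebra.IsRegular K x) :
    LieRing.IsNilpotent (engel K x) := by
  refine isNilpotent_of_forall_le_engel _ fun y hy => ?_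
  set Ex : {engel K z | z ∈ engel K x} := ⟨engel K x, x, self_mem_engel _ _, rfl⟩
  suffices IsBot Ex from @this ⟨engel K y, y, hy, rfl⟩
  refine LieAlgebra.engel_isBot_of_isMin (Cardinal.natCast_le_aleph0.trans
    (Cardinal.infinite_iff.mp inferInstance)) (engel K x) Ex le_rfl ?_
  rintro ⟨_, y, hy, rfl⟩ hyx
  suffices finrank K (engel K x) ≤ finrank K (engel K y) by
    suffices engel K y = engel K x from this.ge
    apply LieSubalgebra.toSubmodule_injective
    exact Submodule.eq_of_le_of_finrank_le hyx this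
  rw [(LieAlgebra.isRegular_iff_finrank_engel_eq_rank K x).mp hx]
  apply LieAlgebra.rank_le_finrank_engel

theorem isNilpotent_engel {x : L} (hx : LieAlgebra.IsRegular K x) :
    LieRing.IsNilpotent (engel K x) := by
  let K' := AlgebraicClosure K
  let x' : K' ⊗[K] L := (1 : K') ⊗ₜ[K] x
  haveI : LieRing.IsNilpotent (engel K' x') := isNilpotent_engel_infinite K' (isRegular_baseChange K K' hx)
  have hmem : ∀ y ∈ engel K x, (1 : K') ⊗ₜ[K] y ∈ engel K' x' := by
    intro y hy
    rw [mem_engel_iff] at hy ⊢
    obtain ⟨n, hn⟩ := hy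
    refine ⟨n, ?_⟩
    rw [← ad_baseChange, ← LinearMap.baseChange_pow, LinearMap.baseChange_tmul, hn, tmul_zero]
  refine (LieAlgebra.isNilpotent_iff_forall (R := K)).2 fun y => ?_
  obtain ⟨n, hn⟩ := LieModule.isNilpotent_toEnd_of_isNilpotent K' (engel K' x') (engel K' x')
    (⟨(1 : K') ⊗ₜ[K] (y : L), hmem _ y.2⟩ : engel K' x')
  refine ⟨n, LinearMap.ext fun z => Subtype.ext ?_⟩
  have key : ∀ m : ℕ, (1 : K') ⊗ₜ[K] (((LieAlgebra.ad K (engel K x) y ^ m) z : engel K x) : L) =
      (((LieModule.toEnd K' (engel K' x') (engel K' x') ⟨(1 : K') ⊗ₜ[K] (y : L), hmem _ y.2⟩ ^ m)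
        ⟨(1 : K') ⊗ₜ[K] (z : L), hmem _ z.2⟩ : engel K' x') : K' ⊗[K] L) := by
    intro m
    induction m with
    | zero => simp
    | succ m ih =>
      rw [pow_succ', pow_succ', Module.End.mul_apply, Module.End.mul_apply, LieAlgebra.ad_apply,
        LieModule.toEnd_apply_apply, LieSubalgebra.coe_bracket, LieSubalgebra.coe_bracket, ← ih,
        LieAlgebra.ExtendScalars.bracket_tmul, one_mul]
  have h1 := key n
  rw [hn] at h1
  have hinj : Function.Injective (fun v : L => (1 : K') ⊗ₜ[K] v) := by
    have h2 := (Module.Flat.rTensor_preserves_injective_linearMap (M := L) (Algebra.linearMap K K')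
      (algebraMap K K').injective).comp (TensorProduct.lid K L).symm.injective
    convert h2 using 1
    funext v
    simp
  exact hinj (h1.trans (tmul_zero L (1 : K')).symm)

end CartanNil
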