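import Groth.Agent.CartanNil.Regular

open TensorProduct Module LinearMap

namespace CartanNil

universe u

attribute [local instance] LieRing.ofAssociativeRing

/-- A nilpotent self-normalising subalgebra over an infinite field is an Engel subalgebra of one of its elements. -/
theorem exists_engel_eq {K : Type u} [Field K] [Infinite K] {L : Type u} [LieRing L] [LieAlgebra K L] [Module.Finite K L]
    (H : LieSubalgebra K L) (hle : ∀ y ∈ H, H ≤ LieSubalgebra.engel K y)
    (hnorm : ∀ x : L, (∀ y ∈ H, ⁅x, y⁆ ∈ H) → x ∈ H) :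
    ∃ x ∈ H, LieSubalgebra.engel K x = H := by
  classical
  obtain ⟨x, hx, hmin⟩ : ∃ x ∈ H, ∀ y ∈ H,
      finrank K (LieSubalgebra.engel K x) ≤ finrank K (LieSubalgebra.engel K y) := by
    have hex : ∃ d, ∃ x ∈ H, finrank K (LieSubalgebra.engel K x) = d := ⟨_, 0, H.zero_mem, rfl⟩
    obtain ⟨x, hx, hxd⟩ := Nat.find_spec hex
    exact ⟨x, hx, fun y hy => hxd ▸ Nat.find_min' hex ⟨y, hy, rfl⟩⟩
  set Ex : {E | ∃ z ∈ H, LieSubalgebra.engel K z = E} := ⟨LieSubalgebra.engel K x, x, hx, rfl⟩
  have hbot : IsBot Ex := by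
    refine LieAlgebra.engel_isBot_of_isMin (Cardinal.natCast_le_aleph0.trans
      (Cardinal.infinite_iff.mp inferInstance)) H Ex (hle x hx) ?_
    rintro ⟨_, y, hy, rfl⟩ hyx
    exact le_of_eq (Subtype.ext (LieSubalgebra.toSubmodule_injective
      (Submodule.eq_of_le_of_finrank_le hyx (hmin y hy))).symm)
  refine ⟨x, hx, le_antisymm ?_ (hle x hx)⟩
  -- `H` acts nilpotently on the Engel subalgebra
  let E : LieSubmodule K H L :=
    { (LieSubalgebra.engel K x).toSubmodule with
      lie_mem := fun {y z} hz => (LieSubalgebra.engel K x).lie_mem (hle x hx y.2) hz }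
  haveI : LieModule.IsNilpotent H E := by
    refine (LieModule.isNilpotent_iff_forall (R := K)).2 fun y => ?_
    have hy : LieSubalgebra.engel K x ≤ LieSubalgebra.engel K (y : L) := hbot ⟨_, y, y.2, rfl⟩
    have hnil : ∀ z : E, ∃ n, ((LieModule.toEnd K H E y) ^ n) z = 0 := by
      intro z
      obtain ⟨n, hn⟩ := (LieSubalgebra.mem_engel_iff K (y : L) z).1 (hy z.2)
      refine ⟨n, Subtype.ext ?_⟩
      have : ∀ m, ((((LieModule.toEnd K H E y) ^ m) z : E) : L) = ((LieAlgebra.ad K L (y : L)) ^ m) z := by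
        intro m
        induction m with
        | zero => simp
        | succ m ih =>
          rw [pow_succ', pow_succ', Module.End.mul_apply, Module.End.mul_apply, ← ih]
          rfl
      rw [this, hn]; rfl
    refine ⟨finrank K E, ?_⟩
    have hχ := (LinearMap.charpoly_eq_X_pow_iff (LieModule.toEnd K H E y)).2 hnil
    have := LinearMap.aeval_self_charpoly (LieModule.toEnd K H E y)
    rwa [hχ, map_pow, Polynomial.aeval_X] at this
  obtain ⟨N, hN⟩ := LieModule.IsNilpotent.nilpotent K H E
  have hdown : ∀ j, j ≤ N → ∀ z ∈ (LieModule.lowerCentralSeries K H E (N - j)), (z : L) ∈ H := by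
    intro j
    induction j with
    | zero =>
      intro _ z hz
      rw [Nat.sub_zero, hN, LieSubmodule.mem_bot] at hz
      rw [hz]; exact H.zero_mem
    | succ j ih =>
      intro hj z hz
      refine hnorm _ fun y hy => ?_
      have h1 : ⁅(⟨y, hy⟩ : H), z⁆ ∈ LieModule.lowerCentralSeries K H E (N - j) := by
        rw [show N - j = (N - (j + 1)) + 1 by omega, LieModule.lowerCentralSeries_succ]
        exact LieSubmodule.lie_mem_lie (LieSubmodule.mem_top _) hz
      have h2 : ⁅y, (z : L)⁆ ∈ H := ih (by omega) _ h1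
      rw [← lie_skew]
      exact H.neg_mem h2
  intro z hz
  have := hdown N le_rfl ⟨z, hz⟩ (by rw [Nat.sub_self, LieModule.lowerCentralSeries_zero]; exact LieSubmodule.mem_top _)
  exact this

end CartanNil
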