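import Groth.Agent.CartanNil.Regular

open TensorProduct Module LinearMap

namespace CartanNil

universe u

variable {A : Type u} [CommRing A] {L : Type u} [LieRing L] [LieAlgebra A L] [Module.Finite A L] [Module.Projective A L]

theorem exists_global_regular (p : PrimeSpectrum A)
    (hC0 : ∃ f : A, f ∉ p.asIdeal ∧ ∀ q : PrimeSpectrum A, f ∉ q.asIdeal →
        LieAlgebra.rank q.asIdeal.ResidueField (q.asIdeal.ResidueField ⊗[A] L) =
          LieAlgebra.rank p.asIdeal.ResidueField (p.asIdeal.ResidueField ⊗[A] L))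
    (hp : ∃ x : p.asIdeal.ResidueField ⊗[A] L, LieAlgebra.IsRegular p.asIdeal.ResidueField x) :
    ∃ (g : A) (a : L), g ∉ p.asIdeal ∧ ∀ q : PrimeSpectrum A, g ∉ q.asIdeal →
      LieAlgebra.IsRegular q.asIdeal.ResidueField ((1 : q.asIdeal.ResidueField) ⊗ₜ[A] a) := by
  obtain ⟨x, hx⟩ := hp
  obtain ⟨s, a, hs, ha⟩ := exists_scalar p x
  have h : LieAlgebra.IsRegular p.asIdeal.ResidueField ((1 : p.asIdeal.ResidueField) ⊗ₜ[A] a) := by
    rw [← ha]
    exact isRegular_smul (fun h => hs (Ideal.algebraMap_residueField_eq_zero.1 h)) hx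
  obtain ⟨g, hg, hg'⟩ := exists_open_regular p hC0 a h
  exact ⟨g, a, hg, hg'⟩

/-- A global section is quasi-regular over an algebra whose points avoid `g`. -/
theorem isQuasiRegular_of_away {g : A} (A' : Type u) [CommRing A'] [Algebra A A'] (a : L)
    (hg : ∀ q : PrimeSpectrum A, g ∉ q.asIdeal →
      LieAlgebra.IsRegular q.asIdeal.ResidueField ((1 : q.asIdeal.ResidueField) ⊗ₜ[A] a))
    (Q : PrimeSpectrum A') (hQ : algebraMap A A' g ∉ Q.asIdeal) :
    LieAlgebra.IsRegular Q.asIdeal.ResidueField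
      ((1 : Q.asIdeal.ResidueField) ⊗ₜ[A'] ((1 : A') ⊗ₜ[A] a)) := by
  rw [← isRegular_congr _ (cancel_bracket A A' Q.asIdeal.ResidueField L),
    TensorProduct.AlgebraTensorModule.cancelBaseChange_tmul, one_smul, isRegular_point A L]
  refine hg _ fun h => hQ ?_
  have h' : algebraMap A Q.asIdeal.ResidueField g = 0 := h
  rw [IsScalarTower.algebraMap_apply A A' Q.asIdeal.ResidueField, Ideal.algebraMap_residueField_eq_zero] at h'
  exact h'

end CartanNil
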