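import Groth.Agent.CartanNil.Engel

open TensorProduct Module LinearMap

namespace CartanNil

universe u

attribute [local instance] LieRing.ofAssociativeRing

variable {K : Type u} [Field K] {L L' : Type u} [LieRing L] [LieAlgebra K L] [Module.Finite K L]
  [LieRing L'] [LieAlgebra K L'] [Module.Finite K L']

theorem rank_le_of_equiv [Infinite K] (e : L ≃ₗ[K] L') (he : ∀ x y, e ⁅x, y⁆ = ⁅e x, e y⁆) :
    LieAlgebra.rank K L' ≤ LieAlgebra.rank K L := by
  obtain ⟨x, hx⟩ := LieAlgebra.exists_isRegular K L
  rw [← (LieAlgebra.isRegular_iff_natTrailingDegree_charpoly_eq_rank K x).1 hx]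
  have h : e.conj (LieAlgebra.ad K L x) = LieAlgebra.ad K L' (e x) := by
    refine LinearMap.ext fun y => ?_
    rw [LinearEquiv.conj_apply_apply, LieAlgebra.ad_apply, LieAlgebra.ad_apply, he, e.apply_symm_apply]
  rw [← LinearEquiv.charpoly_conj e (LieAlgebra.ad K L x), h]
  exact LieAlgebra.rank_le_natTrailingDegree_charpoly_ad K (e x)

/-- The rank only depends on the Lie algebra up to isomorphism. -/
theorem rank_congr (e : L ≃ₗ[K] L') (he : ∀ x y, e ⁅x, y⁆ = ⁅e x, e y⁆) :
    LieAlgebra.rank K L = LieAlgebra.rank K L' := by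
  let K' := AlgebraicClosure K
  rw [← rank_baseChange K K' (L := L), ← rank_baseChange K K' (L := L')]
  let e' : K' ⊗[K] L ≃ₗ[K'] K' ⊗[K] L' := e.baseChange K K' L L'
  have he' : ∀ x y, e' ⁅x, y⁆ = ⁅e' x, e' y⁆ := by
    intro x y
    induction x using TensorProduct.induction_on with
    | zero => simp
    | add a b ha hb => simp [ha, hb]
    | tmul c a =>
      induction y using TensorProduct.induction_on with
      | zero => simp
      | add a b ha hb => simp [ha, hb]
      | tmul d b => simp [e', LieAlgebra.ExtendScalars.bracket_tmul, he]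
  refine le_antisymm (rank_le_of_equiv e'.symm fun x y => e'.injective ?_) (rank_le_of_equiv e' he')
  rw [he', LinearEquiv.apply_symm_apply, LinearEquiv.apply_symm_apply, LinearEquiv.apply_symm_apply]

/-- Characteristic polynomial of an extension by zero along a split injection. -/
theorem charpoly_split {V W : Type u} [AddCommGroup V] [Module K V] [Module.Finite K V] [AddCommGroup W]
    [Module K W] [Module.Finite K W] (p : V →ₗ[K] W) (i : W →ₗ[K] V) (hpi : p ∘ₗ i = LinearMap.id)
    (T : Module.End K W) : ∃ k : ℕ, k + finrank K W = finrank K V ∧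
      (i ∘ₗ T ∘ₗ p).charpoly = T.charpoly * Polynomial.X ^ k := by
  have h : ∀ w, p (i w) = w := LinearMap.congr_fun hpi
  let e : V ≃ₗ[K] W × LinearMap.ker p :=
    { toFun := fun v => (p v, ⟨v - i (p v), by simp [h]⟩)
      map_add' := fun a b => Prod.ext (map_add _ _ _) (Subtype.ext (by simp; abel))
      map_smul' := fun c a => Prod.ext (map_smul _ _ _) (Subtype.ext (by simp [smul_sub]))
      invFun := fun w => i w.1 + w.2
      left_inv := fun v => by simp
      right_inv := fun w => Prod.ext (by simp [h, LinearMap.mem_ker.1 w.2.2])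
        (Subtype.ext (by simp [h, LinearMap.mem_ker.1 w.2.2])) }
  refine ⟨finrank K (LinearMap.ker p), ?_, ?_⟩
  · rw [e.finrank_eq, Module.finrank_prod, add_comm]
  · rw [← LinearEquiv.charpoly_conj e (i ∘ₗ T ∘ₗ p),
      show e.conj (i ∘ₗ T ∘ₗ p) = T.prodMap (0 : Module.End K (LinearMap.ker p)) from ?_,
      LinearMap.charpoly_prodMap, LinearMap.charpoly_zero]
    refine LinearMap.ext fun w => Prod.ext ?_ (Subtype.ext ?_)
    · simp [e, h, LinearMap.mem_ker.1 w.2.2, LinearEquiv.conj_apply_apply]
    · simp [e, h, LinearMap.mem_ker.1 w.2.2, LinearEquiv.conj_apply_apply]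

attribute [local instance] LieRing.ofAssociativeRing in
theorem cancel_bracket (A S K : Type u) (L : Type u) [CommRing A] [CommRing S] [CommRing K] [Algebra A S] [Algebra S K]
    [Algebra A K] [IsScalarTower A S K] [LieRing L] [LieAlgebra A L] (x y : K ⊗[S] (S ⊗[A] L)) :
    TensorProduct.AlgebraTensorModule.cancelBaseChange A S K K L ⁅x, y⁆ =
      ⁅TensorProduct.AlgebraTensorModule.cancelBaseChange A S K K L x,
        TensorProduct.AlgebraTensorModule.cancelBaseChange A S K K L y⁆ := by
  let e := (TensorProduct.AlgebraTensorModule.cancelBaseChange A S K K L).toLinearMap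
  suffices h : (LieAlgebra.ad K (K ⊗[S] (S ⊗[A] L))).toLinearMap.compr₂ e =
      (LieAlgebra.ad K (K ⊗[A] L)).toLinearMap.compl₁₂ e e from LinearMap.congr_fun₂ h x y
  refine TensorProduct.AlgebraTensorModule.ext fun c a => ?_
  induction a using TensorProduct.induction_on with
  | zero => rw [tmul_zero, map_zero, map_zero]
  | add a b ha hb => rw [tmul_add, map_add, map_add, ha, hb]
  | tmul u v =>
    refine TensorProduct.AlgebraTensorModule.ext fun d b => ?_
    induction b using TensorProduct.induction_on with
    | zero => rw [tmul_zero, map_zero, map_zero]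
    | add a b ha hb => rw [tmul_add, map_add, map_add, ha, hb]
    | tmul u' v' =>
      simp [e, LieAlgebra.ad_apply, LieAlgebra.ExtendScalars.bracket_tmul, Algebra.smul_def, mul_mul_mul_comm]
      try ring_nf

end CartanNil
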