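import Groth.Agent.CartanNil.Regular

open TensorProduct Module LinearMap

namespace CartanNil

universe u

attribute [local instance] LieRing.ofAssociativeRing

variable {A : Type u} [CommRing A] {L : Type u} [LieRing L] [LieAlgebra A L] [Module.Finite A L] [Module.Projective A L]

theorem engel_split {N : ℕ} (hN : 0 < N) (a : L)
    (h1 : ∀ y, ((LieAlgebra.ad A L a) ^ (2 * N)) y = 0 → ((LieAlgebra.ad A L a) ^ N) y = 0)
    (h2 : ∀ y, ((LieAlgebra.ad A L a) ^ N) y ∈ LinearMap.range ((LieAlgebra.ad A L a) ^ (2 * N))) :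
    Module.Projective A (L ⧸ (LieSubalgebra.engel A a).toSubmodule) ∧
      (∀ z : L, ⁅a, z⁆ ∈ LieSubalgebra.engel A a → z ∈ LieSubalgebra.engel A a) ∧
      (∀ y : L, ∃ z : L, ⁅a, z⁆ - y ∈ LieSubalgebra.engel A a) := by
  let T : Module.End A L := LieAlgebra.ad A L a
  have hker : ∀ (k : ℕ) y, (T ^ k) y = 0 → (T ^ N) y = 0 := by
    intro k
    induction k using Nat.strong_induction_on with
    | _ k ih =>
      intro y hy
      by_cases hk : k ≤ 2 * N
      · refine h1 y ?_
        rw [show 2 * N = (2 * N - k) + k by omega, pow_add, Module.End.mul_apply, hy, map_zero]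
      · have hy' : (T ^ (2 * N)) ((T ^ (k - 2 * N)) y) = 0 := by
          rw [← Module.End.mul_apply, ← pow_add, Nat.add_sub_cancel' (by omega)]
          exact hy
        have := h1 _ hy'
        rw [← Module.End.mul_apply, ← pow_add] at this
        exact ih (N + (k - 2 * N)) (by omega) y this
  have hE : (LieSubalgebra.engel A a).toSubmodule = LinearMap.ker (T ^ N) := by
    ext y
    rw [LieSubalgebra.mem_toSubmodule, LieSubalgebra.mem_engel_iff, LinearMap.mem_ker]
    exact ⟨fun ⟨k, hk⟩ => hker k y hk, fun h => ⟨N, h⟩⟩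
  have hT2 : ∀ w, (T ^ N) ((T ^ N) w) = (T ^ (2 * N)) w := fun w => by
    rw [← Module.End.mul_apply, ← pow_add, two_mul]
  have hc : IsCompl (LinearMap.ker (T ^ N)) (LinearMap.range (T ^ N)) := by
    constructor
    · rw [Submodule.disjoint_def]
      rintro y hy ⟨w, rfl⟩
      rw [LinearMap.mem_ker, hT2] at hy
      exact h1 w hy
    · rw [codisjoint_iff, eq_top_iff]
      intro y _
      obtain ⟨w, hw⟩ := h2 y
      refine Submodule.mem_sup.2 ⟨y - (T ^ N) w, ?_, (T ^ N) w, ⟨w, rfl⟩, sub_add_cancel _ _⟩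
      rw [LinearMap.mem_ker, map_sub, hT2, sub_eq_zero]
      exact hw.symm
  refine ⟨?_, fun z hz => ?_, fun y => ?_⟩
  · haveI : Module.Projective A (LinearMap.range (T ^ N)) :=
      Module.Projective.of_split (LinearMap.range (T ^ N)).subtype
        ((LinearMap.range (T ^ N)).projectionOnto (LinearMap.ker (T ^ N)) hc.symm)
        (LinearMap.ext fun x => Submodule.projectionOnto_apply_left _ x)
    rw [hE]
    exact Module.Projective.of_equiv (Submodule.quotientEquivOfIsCompl _ _ hc).symm
  · rw [LieSubalgebra.mem_engel_iff] at hz ⊢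
    obtain ⟨k, hk⟩ := hz
    exact ⟨k + 1, by rw [pow_succ]; exact hk⟩
  · obtain ⟨w, hw⟩ := h2 y
    refine ⟨(T ^ (N - 1)) ((1 : A) • w), ?_⟩
    rw [← LieSubalgebra.mem_toSubmodule, hE, LinearMap.mem_ker, map_sub, sub_eq_zero, one_smul,
      show ⁅a, (T ^ (N - 1)) w⁆ = (T * T ^ (N - 1)) w from rfl, ← pow_succ', Nat.sub_add_cancel hN, hT2]
    exact hw

/-- The lowest coefficients of the generic characteristic polynomial vanish near a prime, over a reduced base. -/
theorem exists_generic_vanishing [IsReduced A] {n : ℕ} (π : (Fin n → A) →ₗ[A] L) (i : L →ₗ[A] (Fin n → A))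
    (hi : π ∘ₗ i = LinearMap.id) (q : PrimeSpectrum A)
    (hC0 : ∃ f : A, f ∉ q.asIdeal ∧ ∀ q' : PrimeSpectrum A, f ∉ q'.asIdeal →
        LieAlgebra.rank q'.asIdeal.ResidueField (q'.asIdeal.ResidueField ⊗[A] L) =
          LieAlgebra.rank q.asIdeal.ResidueField (q.asIdeal.ResidueField ⊗[A] L)) :
    ∃ g : A, g ∉ q.asIdeal ∧ ∀ j, j < LieAlgebra.rank q.asIdeal.ResidueField (q.asIdeal.ResidueField ⊗[A] L) +
        (n - Module.rankAtStalk (R := A) L q) →
      MvPolynomial.C g * (extAd π i (MvPolynomial (Fin n) A)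
        (∑ k, MvPolynomial.X k ⊗ₜ[A] π (Pi.single k 1))).charpoly.coeff j = 0 := by
  classical
  haveI : Module.FinitePresentation A L := Module.finitePresentation_of_projective A L
  obtain ⟨f, hfq, hf⟩ := hC0
  obtain ⟨U, hU, hqU, hUd⟩ := (IsLocallyConstant.iff_exists_open _).1
    (Module.isLocallyConstant_rankAtStalk (R := A) (M := L)) q
  obtain ⟨_, ⟨g, rfl⟩, hqg, hgV⟩ := PrimeSpectrum.isTopologicalBasis_basic_opens.exists_subset_of_mem_open
    (show q ∈ (PrimeSpectrum.basicOpen f : Set (PrimeSpectrum A)) ∩ U from ⟨hfq, hqU⟩)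
    ((PrimeSpectrum.basicOpen f).isOpen.inter hU)
  refine ⟨g, hqg, fun j hj => MvPolynomial.ext _ _ fun μ => ?_⟩
  rw [MvPolynomial.coeff_C_mul, MvPolynomial.coeff_zero]
  refine IsNilpotent.eq_zero (nilpotent_iff_mem_prime.2 fun P hP => ?_)
  by_cases hg : g ∈ P
  · exact Ideal.mul_mem_right _ _ hg
  refine Ideal.mul_mem_left _ _ ?_
  let q' : PrimeSpectrum A := ⟨P, hP⟩
  have hq' := hgV (show q' ∈ (PrimeSpectrum.basicOpen g : Set (PrimeSpectrum A)) from hg)
  let k := q'.asIdeal.ResidueField
  let K := AlgebraicClosure k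
  have hker : pt A K = q' := by
    refine PrimeSpectrum.ext (Ideal.ext fun x => ?_)
    show algebraMap A K x = 0 ↔ _
    rw [IsScalarTower.algebraMap_apply A k K, map_eq_zero_iff _ (algebraMap k K).injective,
      Ideal.algebraMap_residueField_eq_zero]
  set c := (extAd π i (MvPolynomial (Fin n) A)
        (∑ k, MvPolynomial.X k ⊗ₜ[A] π (Pi.single k 1))).charpoly.coeff j with hc
  have hzero : MvPolynomial.map (algebraMap A K) c = 0 := by
    refine MvPolynomial.funext fun v => ?_
    rw [map_zero, MvPolynomial.eval_map, ← MvPolynomial.aeval_def, hc]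
    show (MvPolynomial.aeval v).toRingHom (Polynomial.coeff _ j) = 0
    rw [← Polynomial.coeff_map, ← extAd_natural π i (MvPolynomial.aeval v)]
    obtain ⟨hle, hχ⟩ := extAd_charpoly π i hi K
      ((MvPolynomial.aeval v).toLinearMap.rTensor L (∑ k, MvPolynomial.X k ⊗ₜ[A] π (Pi.single k 1)))
    rw [hχ, Polynomial.coeff_mul_X_pow']
    split_ifs with hh
    · refine Polynomial.coeff_eq_zero_of_lt_natTrailingDegree ((?_ : j - (n - finrank K (K ⊗[A] L)) < _).trans_le
        (LieAlgebra.rank_le_natTrailingDegree_charpoly_ad K _))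
      have hr := rank_point A L K
      have hd := finrank_point (A := A) (L := L) K
      rw [hker] at hr hd
      rw [hf q' hq'.1] at hr
      rw [hUd q' hq'.2] at hd
      omega
    · rfl
  have := congrArg (fun P => MvPolynomial.coeff μ P) hzero
  simp only [MvPolynomial.coeff_map, MvPolynomial.coeff_zero] at this
  rw [IsScalarTower.algebraMap_apply A k K, map_eq_zero_iff _ (algebraMap k K).injective] at this
  exact Ideal.algebraMap_residueField_eq_zero.1 this

end CartanNil
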