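import Groth.Agent.CartanNil.Basic
import Groth.Agent.CartanNil.Engel
import Groth.Prelude.Def_W4sga3xiixivxvCartan

open TensorProduct SGA3t2b

namespace CartanNil

universe u

variable {A : Type u} [CommRing A] {L : Type u} [LieRing L] [LieAlgebra A L] [Module.Finite A L] [Module.Projective A L]

/-- A relative Cartan subalgebra through a quasi-regular element is its Engel subalgebra. -/
theorem cartan_eq_engel {H : LieSubalgebra A L} (hH : SGA3t2b.IsCartanRel H) {a : L} (haH : a ∈ H)
    (ha : SGA3t2b.IsQuasiRegular A L a) :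
    H = LieSubalgebra.engel A a ∧ Module.Projective A (L ⧸ H.toSubmodule) ∧
      (∀ z : L, ⁅a, z⁆ ∈ H → z ∈ H) ∧ (∀ y : L, ∃ z : L, ⁅a, z⁆ - y ∈ H) := by
  obtain ⟨hproj, hfib⟩ := hH
  haveI := hproj
  -- retraction onto H
  obtain ⟨s, hs⟩ := Module.projective_lifting_property H.toSubmodule.mkQ LinearMap.id
    (Submodule.mkQ_surjective _)
  have hmem : ∀ x : L, x - s (H.toSubmodule.mkQ x) ∈ H.toSubmodule := fun x => by
    rw [← Submodule.Quotient.eq]
    exact (LinearMap.congr_fun hs (H.toSubmodule.mkQ x)).symm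
  let r : L →ₗ[A] H.toSubmodule :=
    (LinearMap.id - s ∘ₗ H.toSubmodule.mkQ).codRestrict H.toSubmodule hmem
  have hr : r ∘ₗ H.toSubmodule.subtype = LinearMap.id := by
    refine LinearMap.ext fun x => Subtype.ext ?_
    show (x : L) - s (H.toSubmodule.mkQ (x : L)) = x
    rw [Submodule.mkQ_apply, (Submodule.Quotient.mk_eq_zero _).2 x.2, map_zero, sub_zero]
  haveI : Module.Projective A H := Module.Projective.of_split H.toSubmodule.subtype r hr
  haveI : Module.Finite A H := Module.Finite.of_surjective r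
    (fun x => ⟨x, LinearMap.congr_fun hr x⟩)
  -- `ad h` is nilpotent on H
  have hnil : ∀ h : H, ∃ N, ∀ x : H, ((LieAlgebra.ad A L (h : L)) ^ N) (x : L) = 0 := by
    intro h
    have hN : IsNilpotent (LieAlgebra.ad A H h) := by
      refine CartanNil.isNilpotent_of_residue _ fun p => ?_
      haveI := (hfib p).1
      have := LieModule.isNilpotent_toEnd_of_isNilpotent p.asIdeal.ResidueField
        (p.asIdeal.ResidueField ⊗[A] H) (p.asIdeal.ResidueField ⊗[A] H)
        ((1 : p.asIdeal.ResidueField) ⊗ₜ[A] h)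
      convert this using 1
      refine TensorProduct.AlgebraTensorModule.ext fun c x => ?_
      simp [LieAlgebra.ad_apply, LieAlgebra.ExtendScalars.bracket_tmul]
    obtain ⟨N, hN⟩ := hN
    refine ⟨N, fun x => ?_⟩
    have : ∀ k, ((LieAlgebra.ad A L (h : L)) ^ k) (x : L) = (((LieAlgebra.ad A H h) ^ k) x : H) := by
      intro k
      induction k with
      | zero => simp
      | succ k ih => rw [pow_succ', pow_succ', Module.End.mul_apply, Module.End.mul_apply, ih]; simp
    rw [this, hN]; simp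
  -- elements killed by a power of `ad a` lie in H
  let D : Module.End A (L ⧸ H.toSubmodule) :=
    H.toSubmodule.mapQ H.toSubmodule (LieAlgebra.ad A L a) (fun x hx => H.lie_mem haH hx)
  have hD : Function.Bijective D := by
    refine CartanNil.bijective_of_residue D fun p => ?_
    obtain ⟨-, hnorm, hrank⟩ := hfib p
    let K := p.asIdeal.ResidueField
    let ap : K ⊗[A] L := (1 : K) ⊗ₜ[A] a
    have hadp : (LieAlgebra.ad A L a).baseChange K = LieAlgebra.ad K (K ⊗[A] L) ap := by
      refine TensorProduct.AlgebraTensorModule.ext fun c x => ?_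
      simp [ap, K, LieAlgebra.ad_apply, LieAlgebra.ExtendScalars.bracket_tmul]
    have hle : fibreSubmodule p H ≤ (LieSubalgebra.engel K ap).toSubmodule := by
      rw [fibreSubmodule, Submodule.baseChange_eq_span, Submodule.span_le]
      rintro _ ⟨x, hx, rfl⟩
      obtain ⟨N, hN⟩ := hnil ⟨a, haH⟩
      rw [SetLike.mem_coe, LieSubalgebra.mem_toSubmodule, LieSubalgebra.mem_engel_iff]
      refine ⟨N, ?_⟩
      rw [← hadp, ← LinearMap.baseChange_pow]
      show (1 : K) ⊗ₜ[A] ((LieAlgebra.ad A L a ^ N) x) = 0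
      rw [hN ⟨x, hx⟩, TensorProduct.tmul_zero]
    have heq : fibreSubmodule p H = (LieSubalgebra.engel K ap).toSubmodule := by
      refine Submodule.eq_of_le_of_finrank_le hle (le_of_eq ?_)
      rw [hrank]
      exact (LieAlgebra.isRegular_iff_finrank_engel_eq_rank K ap).1 (ha p)
    have hex : Function.Exact (H.toSubmodule.subtype.baseChange K) (H.toSubmodule.mkQ.baseChange K) :=
      lTensor_exact K (LinearMap.exact_subtype_mkQ _) (Submodule.mkQ_surjective _)
    have hcomm : ∀ x, D.baseChange K (H.toSubmodule.mkQ.baseChange K x) =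
        H.toSubmodule.mkQ.baseChange K (LieAlgebra.ad K (K ⊗[A] L) ap x) := by
      intro x
      rw [← hadp, ← LinearMap.comp_apply, ← LinearMap.comp_apply, ← LinearMap.baseChange_comp,
        ← LinearMap.baseChange_comp]
      rfl
    rw [injective_iff_map_eq_zero]
    intro y hy
    obtain ⟨x, rfl⟩ : ∃ x, H.toSubmodule.mkQ.baseChange K x = y :=
      LinearMap.lTensor_surjective K (Submodule.mkQ_surjective H.toSubmodule) y
    rw [hcomm] at hy
    obtain ⟨z, hz⟩ := (hex _).1 hy
    have h1 : LieAlgebra.ad K (K ⊗[A] L) ap x ∈ fibreSubmodule p H := ⟨z, hz⟩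
    rw [heq, LieSubalgebra.mem_toSubmodule, LieSubalgebra.mem_engel_iff] at h1
    obtain ⟨n, hn⟩ := h1
    have h2 : x ∈ fibreSubmodule p H := by
      rw [heq, LieSubalgebra.mem_toSubmodule, LieSubalgebra.mem_engel_iff]
      exact ⟨n + 1, by rw [pow_succ]; exact hn⟩
    obtain ⟨w, hw⟩ := h2
    exact (hex _).2 ⟨w, hw⟩
  have hmemH : ∀ (N : ℕ) (x : L), ((LieAlgebra.ad A L a) ^ N) x = 0 → x ∈ H := by
    intro N
    induction N with
    | zero => intro x hx; rw [show x = 0 from hx]; exact H.zero_mem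
    | succ N ih =>
      intro x hx
      rw [pow_succ, Module.End.mul_apply] at hx
      have h1 := ih _ hx
      have h2 : D (H.toSubmodule.mkQ x) = 0 := (Submodule.Quotient.mk_eq_zero _).2 h1
      exact (Submodule.Quotient.mk_eq_zero _).1 (hD.1 (h2.trans (map_zero D).symm))
  refine ⟨LieSubalgebra.ext _ _ fun x => ?_, hproj, fun z hz => ?_, fun y => ?_⟩
  · rw [LieSubalgebra.mem_engel_iff]
    refine ⟨fun hx => ?_, fun ⟨N, hN⟩ => hmemH N x hN⟩
    obtain ⟨N, hN⟩ := hnil ⟨a, haH⟩
    exact ⟨N, hN ⟨x, hx⟩⟩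
  · have h2 : D (H.toSubmodule.mkQ z) = 0 := (Submodule.Quotient.mk_eq_zero _).2 hz
    exact (Submodule.Quotient.mk_eq_zero _).1 (hD.1 (h2.trans (map_zero D).symm))
  · obtain ⟨w, hw⟩ := hD.2 (H.toSubmodule.mkQ y)
    obtain ⟨z, rfl⟩ := Submodule.mkQ_surjective _ w
    exact ⟨z, (Submodule.Quotient.eq _).1 hw⟩

attribute [local instance] LieRing.ofAssociativeRing in
/-- Conversely, the Engel subalgebra is a relative Cartan subalgebra. -/
theorem isCartanRel_engel {a : L} (ha : SGA3t2b.IsQuasiRegular A L a)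
    (hproj : Module.Projective A (L ⧸ (LieSubalgebra.engel A a).toSubmodule))
    (hinj : ∀ z : L, ⁅a, z⁆ ∈ LieSubalgebra.engel A a → z ∈ LieSubalgebra.engel A a)
    (hsurj : ∀ y : L, ∃ z : L, ⁅a, z⁆ - y ∈ LieSubalgebra.engel A a) :
    SGA3t2b.IsCartanRel (LieSubalgebra.engel A a) := by
  set H := LieSubalgebra.engel A a with hHdef
  haveI := hproj
  have haH : a ∈ H := LieSubalgebra.self_mem_engel A a
  let D : Module.End A (L ⧸ H.toSubmodule) :=
    H.toSubmodule.mapQ H.toSubmodule (LieAlgebra.ad A L a) (fun x hx => H.lie_mem haH hx)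
  have hD : Function.Bijective D := by
    refine ⟨?_, ?_⟩
    · rw [injective_iff_map_eq_zero]
      intro w hw
      obtain ⟨z, rfl⟩ := Submodule.mkQ_surjective _ w
      exact (Submodule.Quotient.mk_eq_zero _).2 (hinj z ((Submodule.Quotient.mk_eq_zero _).1 hw))
    · intro w
      obtain ⟨y, rfl⟩ := Submodule.mkQ_surjective _ w
      obtain ⟨z, hz⟩ := hsurj y
      exact ⟨H.toSubmodule.mkQ z, (Submodule.Quotient.eq _).2 hz⟩
  obtain ⟨s, hs⟩ := Module.projective_lifting_property H.toSubmodule.mkQ LinearMap.id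
    (Submodule.mkQ_surjective _)
  have hmem : ∀ x : L, x - s (H.toSubmodule.mkQ x) ∈ H.toSubmodule := fun x => by
    rw [← Submodule.Quotient.eq]
    exact (LinearMap.congr_fun hs (H.toSubmodule.mkQ x)).symm
  let r : L →ₗ[A] H.toSubmodule :=
    (LinearMap.id - s ∘ₗ H.toSubmodule.mkQ).codRestrict H.toSubmodule hmem
  have hr : r ∘ₗ H.toSubmodule.subtype = LinearMap.id := by
    refine LinearMap.ext fun x => Subtype.ext ?_
    show (x : L) - s (H.toSubmodule.mkQ (x : L)) = x
    rw [Submodule.mkQ_apply, (Submodule.Quotient.mk_eq_zero _).2 x.2, map_zero, sub_zero]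
  refine ⟨hproj, fun p => ?_⟩
  let K := p.asIdeal.ResidueField
  let ap : K ⊗[A] L := (1 : K) ⊗ₜ[A] a
  have hadp : (LieAlgebra.ad A L a).baseChange K = LieAlgebra.ad K (K ⊗[A] L) ap := by
    refine TensorProduct.AlgebraTensorModule.ext fun c x => ?_
    simp [ap, K, LieAlgebra.ad_apply, LieAlgebra.ExtendScalars.bracket_tmul]
  have hle : fibreSubmodule p H ≤ (LieSubalgebra.engel K ap).toSubmodule := by
    rw [fibreSubmodule, Submodule.baseChange_eq_span, Submodule.span_le]
    rintro _ ⟨x, hx, rfl⟩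
    obtain ⟨N, hN⟩ := (LieSubalgebra.mem_engel_iff A a x).1 hx
    rw [SetLike.mem_coe, LieSubalgebra.mem_toSubmodule, LieSubalgebra.mem_engel_iff]
    refine ⟨N, ?_⟩
    rw [← hadp, ← LinearMap.baseChange_pow]
    show (1 : K) ⊗ₜ[A] ((LieAlgebra.ad A L a ^ N) x) = 0
    rw [hN, TensorProduct.tmul_zero]
  have hex : Function.Exact (H.toSubmodule.subtype.baseChange K) (H.toSubmodule.mkQ.baseChange K) :=
    lTensor_exact K (LinearMap.exact_subtype_mkQ _) (Submodule.mkQ_surjective _)
  have hcomm : ∀ x, D.baseChange K (H.toSubmodule.mkQ.baseChange K x) =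
      H.toSubmodule.mkQ.baseChange K (LieAlgebra.ad K (K ⊗[A] L) ap x) := by
    intro x
    rw [← hadp, ← LinearMap.comp_apply, ← LinearMap.comp_apply, ← LinearMap.baseChange_comp,
      ← LinearMap.baseChange_comp]
    rfl
  have hDp : Function.Injective (D.baseChange K) :=
    ((LinearEquiv.ofBijective D hD).baseChange A K _ _).injective
  have hge : ∀ (n : ℕ) (x : K ⊗[A] L), (LieAlgebra.ad K (K ⊗[A] L) ap ^ n) x = 0 → x ∈ fibreSubmodule p H := by
    intro n
    induction n with
    | zero => intro x hx; rw [show x = 0 from hx]; exact zero_mem _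
    | succ n ih =>
      intro x hx
      rw [pow_succ, Module.End.mul_apply] at hx
      obtain ⟨w, hw⟩ := ih _ hx
      have h2 : D.baseChange K (H.toSubmodule.mkQ.baseChange K x) = 0 := by
        rw [hcomm, ← hw]; exact (hex _).2 ⟨w, rfl⟩
      exact (hex _).1 (hDp (h2.trans (map_zero _).symm))
  have heq : fibreSubmodule p H = (LieSubalgebra.engel K ap).toSubmodule := by
    refine le_antisymm hle fun x hx => ?_
    obtain ⟨n, hn⟩ := (LieSubalgebra.mem_engel_iff K ap x).1 hx
    exact hge n x hn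
  refine ⟨?_, ?_, ?_⟩
  · haveI := isNilpotent_engel K (ha p)
    let f : K ⊗[A] H →ₗ[K] K ⊗[A] L := LinearMap.baseChange K (H.incl.toLinearMap : H →ₗ[A] L)
    have hf : Function.Injective f := by
      refine Function.LeftInverse.injective (g := r.baseChange K) fun z => ?_
      have hr' : r ∘ₗ (H.incl.toLinearMap : H →ₗ[A] L) = LinearMap.id := hr
      refine (LinearMap.comp_apply _ _ _).symm.trans ?_
      rw [← LinearMap.baseChange_comp, hr', LinearMap.baseChange_id]
      rfl
    have hfb : ∀ y z : K ⊗[A] H, f ⁅y, z⁆ = ⁅f y, f z⁆ := by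
      intro y z
      induction y using TensorProduct.induction_on with
      | zero => exact (congrArg f (zero_lie z)).trans ((map_zero f).trans
          ((congrArg (fun w => ⁅w, f z⁆) (map_zero f)).trans (zero_lie (f z))).symm)
      | add a b ha hb => exact (congrArg f (add_lie a b z)).trans ((map_add f _ _).trans
          ((congrArg₂ (· + ·) ha hb).trans ((congrArg (fun w => ⁅w, f z⁆) (map_add f a b)).trans (add_lie _ _ _)).symm))
      | tmul c x =>
        induction z using TensorProduct.induction_on with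
        | zero => exact (congrArg f (lie_zero (L := K ⊗[A] H) (M := K ⊗[A] H) (c ⊗ₜ[A] x))).trans ((map_zero f).trans
            ((congrArg (fun w => ⁅f (c ⊗ₜ[A] x), w⁆) (map_zero f)).trans (lie_zero _)).symm)
        | add a b ha hb => exact (congrArg f (lie_add (L := K ⊗[A] H) (M := K ⊗[A] H) (c ⊗ₜ[A] x) a b)).trans ((map_add f _ _).trans
            ((congrArg₂ (· + ·) ha hb).trans ((congrArg (fun w => ⁅f (c ⊗ₜ[A] x), w⁆) (map_add f a b)).trans (lie_add _ _ _)).symm))
        | tmul d x' =>
          rw [LieAlgebra.ExtendScalars.bracket_tmul]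
          show (c * d) ⊗ₜ[A] ((⁅x, x'⁆ : H) : L) = ⁅c ⊗ₜ[A] (x : L), d ⊗ₜ[A] (x' : L)⁆
          rw [LieAlgebra.ExtendScalars.bracket_tmul]
          rfl
    have hfE : ∀ y, f y ∈ LieSubalgebra.engel K ap := fun y => by
      rw [← LieSubalgebra.mem_toSubmodule, ← heq]; exact ⟨y, rfl⟩
    haveI : Module.Finite A H := Module.Finite.of_surjective r (fun x => ⟨x, LinearMap.congr_fun hr x⟩)
    haveI : Module.Finite K (K ⊗[A] H) := Module.Finite.base_change A K H
    haveI : IsNoetherian K (K ⊗[A] H) := isNoetherian_of_isNoetherianRing_of_finite K (K ⊗[A] H)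
    refine (LieAlgebra.isNilpotent_iff_forall (R := K)).2 fun y => ?_
    obtain ⟨n, hn⟩ := LieModule.isNilpotent_toEnd_of_isNilpotent K (LieSubalgebra.engel K ap)
      (LieSubalgebra.engel K ap) (⟨f y, hfE y⟩ : LieSubalgebra.engel K ap)
    refine ⟨n, LinearMap.ext fun z => hf ?_⟩
    have key : ∀ m : ℕ, f ((LieAlgebra.ad K (K ⊗[A] H) y ^ m) z) =
        (((LieModule.toEnd K (LieSubalgebra.engel K ap) (LieSubalgebra.engel K ap) ⟨f y, hfE y⟩ ^ m)
          ⟨f z, hfE z⟩ : LieSubalgebra.engel K ap) : K ⊗[A] L) := by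
      intro m
      induction m with
      | zero => simp
      | succ m ih =>
        rw [pow_succ', pow_succ', Module.End.mul_apply, Module.End.mul_apply, LieAlgebra.ad_apply,
          LieModule.toEnd_apply_apply, LieSubalgebra.coe_bracket, hfb, ← ih]
    rw [key n, hn]
    simp
  · intro x hx
    rw [heq] at hx ⊢
    rw [LieSubalgebra.mem_toSubmodule, ← LieSubalgebra.normalizer_engel (R := K) ap, LieSubalgebra.mem_normalizer_iff]
    exact hx
  · rw [heq]
    exact (LieAlgebra.isRegular_iff_finrank_engel_eq_rank K ap).1 (ha p)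

end CartanNil
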