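import Groth.Agent.CartanNil.Rank
import Groth.Agent.CartanNil.Sub

open TensorProduct Module LinearMap

namespace CartanNil

universe u

attribute [local instance] LieRing.ofAssociativeRing

variable {A : Type u} [CommRing A] {L : Type u} [LieRing L] [LieAlgebra A L]

/-- Regularity only depends on the Lie algebra up to isomorphism. -/
theorem isRegular_congr {K : Type u} [Field K] {M M' : Type u} [LieRing M] [LieAlgebra K M] [Module.Finite K M]
    [LieRing M'] [LieAlgebra K M'] [Module.Finite K M'] (e : M ≃ₗ[K] M') (he : ∀ x y, e ⁅x, y⁆ = ⁅e x, e y⁆) (x : M) :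
    LieAlgebra.IsRegular K (e x) ↔ LieAlgebra.IsRegular K x := by
  have h : e.conj (LieAlgebra.ad K M x) = LieAlgebra.ad K M' (e x) := by
    refine LinearMap.ext fun y => ?_
    rw [LinearEquiv.conj_apply_apply, LieAlgebra.ad_apply, LieAlgebra.ad_apply, he, e.apply_symm_apply]
  rw [LieAlgebra.isRegular_def, LieAlgebra.isRegular_def, rank_congr e he, ← h, LinearEquiv.charpoly_conj]

/-- Regularity and extension of fields. -/
theorem isRegular_baseChange_iff (K K' : Type u) [Field K] [Field K'] [Algebra K K'] {M : Type u} [LieRing M]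
    [LieAlgebra K M] [Module.Finite K M] (x : M) :
    LieAlgebra.IsRegular K' ((1 : K') ⊗ₜ[K] x) ↔ LieAlgebra.IsRegular K x := by
  refine ⟨fun h => ?_, isRegular_baseChange K K'⟩
  rw [LieAlgebra.isRegular_def] at h ⊢
  rw [rank_baseChange, ← ad_baseChange, LinearMap.charpoly_baseChange, Polynomial.coeff_map] at h
  exact fun h0 => h (by rw [h0, map_zero])

theorem ad_tmul (K : Type u) [CommRing K] [Algebra A K] (a : L) :
    (LieAlgebra.ad A L a).baseChange K = LieAlgebra.ad K (K ⊗[A] L) ((1 : K) ⊗ₜ[A] a) := by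
  refine TensorProduct.AlgebraTensorModule.ext fun c x => ?_
  simp [LieAlgebra.ad_apply, LieAlgebra.ExtendScalars.bracket_tmul]

section Point

variable [Module.Finite A L] (A L) (K : Type u) [Field K] [Algebra A K]

/-- The prime of `A` under a field-valued point. -/
noncomputable def pt : PrimeSpectrum A := ⟨RingHom.ker (algebraMap A K), RingHom.ker_isPrime _⟩

/-- The residue field maps to the field. -/
noncomputable def ptMap : (pt A K).asIdeal.ResidueField →ₐ[A] K :=
  Ideal.ResidueField.liftₐ (pt A K).asIdeal (Algebra.ofId A K) le_rfl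
    (fun x hx => Submonoid.mem_comap.2 (IsUnit.mk0 _ hx))

theorem rank_point : LieAlgebra.rank K (K ⊗[A] L) =
    LieAlgebra.rank (pt A K).asIdeal.ResidueField ((pt A K).asIdeal.ResidueField ⊗[A] L) := by
  let k := (pt A K).asIdeal.ResidueField
  letI : Algebra k K := (ptMap A K).toRingHom.toAlgebra
  haveI : IsScalarTower A k K := IsScalarTower.of_algebraMap_eq fun x => ((ptMap A K).commutes x).symm
  rw [← rank_baseChange k K, rank_congr _ (cancel_bracket A k K L)]

theorem isRegular_point (a : L) : LieAlgebra.IsRegular K ((1 : K) ⊗ₜ[A] a) ↔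
    LieAlgebra.IsRegular (pt A K).asIdeal.ResidueField ((1 : (pt A K).asIdeal.ResidueField) ⊗ₜ[A] a) := by
  let k := (pt A K).asIdeal.ResidueField
  letI : Algebra k K := (ptMap A K).toRingHom.toAlgebra
  haveI : IsScalarTower A k K := IsScalarTower.of_algebraMap_eq fun x => ((ptMap A K).commutes x).symm
  rw [← isRegular_baseChange_iff k K, ← isRegular_congr _ (cancel_bracket A k K L)]
  simp [k]

end Point

theorem pt_residueField (q : PrimeSpectrum A) : pt A q.asIdeal.ResidueField = q :=
  PrimeSpectrum.ext q.asIdeal.ker_algebraMap_residueField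

/-- Every element of a fibre is a scalar multiple of the image of a global element. -/
theorem exists_scalar (p : PrimeSpectrum A) {M : Type u} [AddCommGroup M] [Module A M]
    (z : p.asIdeal.ResidueField ⊗[A] M) :
    ∃ (s : A) (m : M), s ∉ p.asIdeal ∧
      algebraMap A p.asIdeal.ResidueField s • z = (1 : p.asIdeal.ResidueField) ⊗ₜ[A] m := by
  induction z using TensorProduct.induction_on with
  | zero => exact ⟨1, 0, fun h => p.isPrime.ne_top (p.asIdeal.eq_top_of_isUnit_mem h isUnit_one), by simp⟩
  | tmul c m =>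
    obtain ⟨⟨r, s⟩, hs⟩ := IsLocalization.surj (nonZeroDivisors (A ⧸ p.asIdeal)) c
    obtain ⟨r', hr'⟩ := Ideal.Quotient.mk_surjective r
    obtain ⟨s', hs'⟩ := Ideal.Quotient.mk_surjective (s : A ⧸ p.asIdeal)
    refine ⟨s', r' • m, fun h => nonZeroDivisors.ne_zero s.2 (hs' ▸ Ideal.Quotient.eq_zero_iff_mem.2 h), ?_⟩
    rw [← hr', ← hs'] at hs
    rw [TensorProduct.tmul_smul, TensorProduct.smul_tmul', TensorProduct.smul_tmul', smul_eq_mul,
      Algebra.smul_def, mul_one, mul_comm]
    congr 1
  | add x y hx hy =>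
    obtain ⟨s, m, hs, h⟩ := hx
    obtain ⟨t, n, ht, h'⟩ := hy
    refine ⟨s * t, t • m + s • n, fun hh => (p.isPrime.mem_or_mem hh).elim hs ht, ?_⟩
    rw [smul_add, TensorProduct.tmul_add, TensorProduct.tmul_smul, TensorProduct.tmul_smul, ← h, ← h',
      map_mul, mul_smul, mul_smul, smul_comm (algebraMap A p.asIdeal.ResidueField s), algebraMap_smul,
      algebraMap_smul, algebraMap_smul, algebraMap_smul]

theorem isRegular_smul {K : Type u} [Field K] {M : Type u} [LieRing M] [LieAlgebra K M] [Module.Finite K M]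
    {c : K} (hc : c ≠ 0) {x : M} (hx : LieAlgebra.IsRegular K x) : LieAlgebra.IsRegular K (c • x) := by
  rw [LieAlgebra.isRegular_iff_finrank_engel_eq_rank] at hx ⊢
  rw [← hx]
  have : LieSubalgebra.engel K (c • x) = LieSubalgebra.engel K x := by
    refine LieSubalgebra.ext _ _ fun y => ?_
    simp only [LieSubalgebra.mem_engel_iff, map_smul, smul_pow, LinearMap.smul_apply, smul_eq_zero,
      pow_eq_zero_iff', hc, false_and, false_or]
  rw [this]

section Charpoly

variable {n : ℕ} (π : (Fin n → A) →ₗ[A] L) (i : L →ₗ[A] (Fin n → A))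

/-- The extension by zero of `ad z` to a free module. -/
noncomputable def extAd (R : Type u) [CommRing R] [Algebra A R] (z : R ⊗[A] L) :
    Module.End R (R ⊗[A] (Fin n → A)) :=
  i.baseChange R ∘ₗ LieAlgebra.ad R (R ⊗[A] L) z ∘ₗ π.baseChange R

theorem extAd_natural {R S : Type u} [CommRing R] [Algebra A R] [CommRing S] [Algebra A S] (φ : R →ₐ[A] S)
    (z : R ⊗[A] L) : (extAd π i S (φ.toLinearMap.rTensor L z)).charpoly =
      (extAd π i R z).charpoly.map φ.toRingHom := by
  letI : Algebra R S := φ.toRingHom.toAlgebra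
  haveI : IsScalarTower A R S := IsScalarTower.of_algebraMap_eq fun x => (φ.commutes x).symm
  let e := TensorProduct.AlgebraTensorModule.cancelBaseChange A R S S (Fin n → A)
  have h : extAd π i S (φ.toLinearMap.rTensor L z) = e.conj ((extAd π i R z).baseChange S) := by
    refine TensorProduct.AlgebraTensorModule.ext fun c v => ?_
    rw [LinearEquiv.conj_apply_apply, TensorProduct.AlgebraTensorModule.cancelBaseChange_symm_tmul,
      LinearMap.baseChange_tmul]
    induction z using TensorProduct.induction_on with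
    | zero => simp [extAd]
    | add x y hx hy =>
      simp only [extAd, map_add, LinearMap.comp_apply, LinearMap.add_apply, TensorProduct.tmul_add] at hx hy ⊢
      rw [hx, hy]
    | tmul r l =>
      simp [extAd, e, LieAlgebra.ad_apply, LieAlgebra.ExtendScalars.bracket_tmul, Algebra.smul_def, mul_comm,
        RingHom.algebraMap_toAlgebra]
  rw [h, LinearEquiv.charpoly_conj, LinearMap.charpoly_baseChange]
  rfl

variable (hi : π ∘ₗ i = LinearMap.id)
include hi

theorem extAd_charpoly [Module.Finite A L] (K : Type u) [Field K] [Algebra A K] (z : K ⊗[A] L) :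
    finrank K (K ⊗[A] L) ≤ n ∧ (extAd π i K z).charpoly =
      (LieAlgebra.ad K (K ⊗[A] L) z).charpoly * Polynomial.X ^ (n - finrank K (K ⊗[A] L)) := by
  haveI : Nontrivial A := (algebraMap A K).domain_nontrivial
  obtain ⟨k, hk, hχ⟩ := charpoly_split (π.baseChange K) (i.baseChange K)
    (by rw [← LinearMap.baseChange_comp, hi, LinearMap.baseChange_id]) (LieAlgebra.ad K (K ⊗[A] L) z)
  rw [show finrank K (K ⊗[A] (Fin n → A)) = n by
    rw [Module.finrank_baseChange, Module.finrank_pi, Fintype.card_fin]] at hk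
  refine ⟨by omega, ?_⟩
  rw [show n - finrank K (K ⊗[A] L) = k by omega]
  exact hχ

end Charpoly

theorem finrank_point [Module.Finite A L] [Module.Projective A L] (K : Type u) [Field K] [Algebra A K] :
    finrank K (K ⊗[A] L) = Module.rankAtStalk (R := A) L (pt A K) := by
  let k := (pt A K).asIdeal.ResidueField
  letI : Algebra k K := (ptMap A K).toRingHom.toAlgebra
  haveI : IsScalarTower A k K := IsScalarTower.of_algebraMap_eq fun x => ((ptMap A K).commutes x).symm
  rw [← (TensorProduct.AlgebraTensorModule.cancelBaseChange A k K K L).finrank_eq, Module.finrank_baseChange]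
  exact (Module.rankAtStalk_eq (M := L) (pt A K)).symm

/-- The regular locus of a section is open when the rank is locally constant. -/
theorem exists_open_regular [Module.Finite A L] [Module.Projective A L] (p : PrimeSpectrum A)
    (hC0 : ∃ f : A, f ∉ p.asIdeal ∧ ∀ q : PrimeSpectrum A, f ∉ q.asIdeal →
        LieAlgebra.rank q.asIdeal.ResidueField (q.asIdeal.ResidueField ⊗[A] L) =
          LieAlgebra.rank p.asIdeal.ResidueField (p.asIdeal.ResidueField ⊗[A] L))
    (a : L) (hp : LieAlgebra.IsRegular p.asIdeal.ResidueField ((1 : p.asIdeal.ResidueField) ⊗ₜ[A] a)) :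
    ∃ g : A, g ∉ p.asIdeal ∧ ∀ q : PrimeSpectrum A, g ∉ q.asIdeal →
      LieAlgebra.IsRegular q.asIdeal.ResidueField ((1 : q.asIdeal.ResidueField) ⊗ₜ[A] a) := by
  classical
  obtain ⟨n, π, i, -, -, hi⟩ := Module.Finite.exists_comp_eq_id_of_projective A L
  haveI : Module.FinitePresentation A L := Module.finitePresentation_of_projective A L
  obtain ⟨f, hfp, hf⟩ := hC0
  obtain ⟨U, hU, hpU, hUd⟩ := (IsLocallyConstant.iff_exists_open _).1
    (Module.isLocallyConstant_rankAtStalk (R := A) (M := L)) p
  let r := LieAlgebra.rank p.asIdeal.ResidueField (p.asIdeal.ResidueField ⊗[A] L)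
  let d := Module.rankAtStalk (R := A) L p
  let c : A := (i ∘ₗ LieAlgebra.ad A L a ∘ₗ π).charpoly.coeff (r + (n - d))
  have key : ∀ q : PrimeSpectrum A, f ∉ q.asIdeal → q ∈ U →
      (LieAlgebra.IsRegular q.asIdeal.ResidueField ((1 : q.asIdeal.ResidueField) ⊗ₜ[A] a) ↔ c ∉ q.asIdeal) := by
    intro q hfq hqU
    haveI : Nontrivial A := (algebraMap A q.asIdeal.ResidueField).domain_nontrivial
    let K := q.asIdeal.ResidueField
    have hd : finrank K (K ⊗[A] L) = d := (Module.rankAtStalk_eq (M := L) q).symm.trans (hUd q hqU)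
    have h2 : extAd π i K ((1 : K) ⊗ₜ[A] a) = (i ∘ₗ LieAlgebra.ad A L a ∘ₗ π).baseChange K := by
      rw [extAd, LinearMap.baseChange_comp, LinearMap.baseChange_comp, ad_tmul]
    obtain ⟨-, hχ⟩ := extAd_charpoly π i hi K ((1 : K) ⊗ₜ[A] a)
    have h3 : algebraMap A K c = (LieAlgebra.ad K (K ⊗[A] L) ((1 : K) ⊗ₜ[A] a)).charpoly.coeff r := by
      rw [← Polynomial.coeff_map, ← LinearMap.charpoly_baseChange, ← h2, hχ, hd, Polynomial.coeff_mul_X_pow]
    rw [LieAlgebra.isRegular_def, hf q hfq, ← h3, ne_eq]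
    exact not_congr Ideal.algebraMap_residueField_eq_zero
  obtain ⟨_, ⟨g, rfl⟩, hpg, hgV⟩ := PrimeSpectrum.isTopologicalBasis_basic_opens.exists_subset_of_mem_open
    (show p ∈ (PrimeSpectrum.basicOpen f : Set (PrimeSpectrum A)) ∩ U ∩
      (PrimeSpectrum.basicOpen c : Set (PrimeSpectrum A)) from ⟨⟨hfp, hpU⟩, (key p hfp hpU).1 hp⟩)
    (((PrimeSpectrum.basicOpen f).isOpen.inter hU).inter (PrimeSpectrum.basicOpen c).isOpen)
  exact ⟨g, hpg, fun q hq => (key q (hgV hq).1.1 (hgV hq).1.2).2 (hgV hq).2⟩

end CartanNil
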